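import Groth.Agent.AlgClosedSpread.Basic
import Groth.Agent.AlgStLib.Noetherian
import Groth.Agent.MorLib.BaseChangeLim
import Groth.Agent.FPEnough.Descend
import Groth.Agent.FlatG.Rel
import Groth.Agent.S4799
import Groth.Agent.S1026
import Groth.Agent.H9Misc.FlatTwistGlobal
import Groth.Agent.KFlatLib.Scheme.RelTor
import Groth.Agent.HilbPoly.Descent
import Groth.Prelude.Def_ShStab

/-!
# Spreading out quotients of a base change to a finite extension of the field
-/

set_option linter.style.haveILetI false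
set_option linter.unusedSectionVars false
set_option backward.isDefEq.respectTransparency false
set_option backward.isDefEq.respectTransparency.types false
set_option maxHeartbeats 1000000

universe u

open CategoryTheory CategoryTheory.Limits AlgebraicGeometry TopologicalSpace Opposite Polynomial

noncomputable section

namespace Groth.Agent.ShStabBC

open Groth.Agent

/-- The Euler characteristic of a base change to a field valued point is that of the fibre at its image. -/
theorem euler_fieldPoint {Y T : Scheme.{u}} (f : Y ⟶ T) [IsProper f] {K : Type u} [Field K] {Z : Scheme.{u}}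
    [Z.Over (Spec (CommRingCat.of K))] [IsProper (Z ↘ Spec (CommRingCat.of K))]
    {g : Z ⟶ Y} {x : Spec (CommRingCat.of K) ⟶ T}
    (hc : IsPullback g (Z ↘ Spec (CommRingCat.of K)) f x) (M : Y.Modules) (hM : Coh.IsQCoh M) :
    Curv2.euler K Z ((Scheme.Modules.pullback g).obj M) =
      @Curv2.euler (T.residueField (x (IsLocalRing.closedPoint K))) _ (f.fiber (x (IsLocalRing.closedPoint K)))
        ⟨f.fiberToSpecResidueField (x (IsLocalRing.closedPoint K))⟩
        ((Scheme.Modules.pullback (f.fiberι (x (IsLocalRing.closedPoint K)))).obj M) := by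
  let t : ↥(Spec (CommRingCat.of K)) := IsLocalRing.closedPoint K
  let f' : Z ⟶ Spec (CommRingCat.of K) := Z ↘ Spec (CommRingCat.of K)
  refine Eq.trans ?_ (FlatG.euler_fibre_bc f hc t M hM)
  let R : Type u := (Spec (CommRingCat.of K)).residueField t
  letI : Algebra K R := (Spec.preimage ((Spec (CommRingCat.of K)).fromSpecResidueField t)).hom.toAlgebra
  letI : (f'.fiber t).Over (Spec (CommRingCat.of R)) := ⟨f'.fiberToSpecResidueField t⟩
  have halg : Spec.map (CommRingCat.ofHom (algebraMap K R)) = (Spec (CommRingCat.of K)).fromSpecResidueField t :=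
    Spec.map_preimage _
  have hpb : IsPullback (f'.fiberι t) (f'.fiber t ↘ Spec (CommRingCat.of R)) (Z ↘ Spec (CommRingCat.of K))
      (Spec.map (CommRingCat.ofHom (algebraMap K R))) := by
    rw [halg]
    exact IsPullback.of_hasPullback f' ((Spec (CommRingCat.of K)).fromSpecResidueField t)
  haveI : CompactSpace Z := QuasiCompact.compactSpace_of_compactSpace (Z ↘ Spec (CommRingCat.of K))
  haveI : QuasiSeparatedSpace Z := quasiSeparatedSpace_of_quasiSeparated (Z ↘ Spec (CommRingCat.of K))
  haveI := CurveCohLib.isNoetherian_of_proper (k := K) (X := Z)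
  exact (CurveBC.euler_eq K R (f'.fiberι t) hpb _ (QCoh.isQCoh_pullback g hM)).symm

/-- Euler characteristics of the twists of a family are equal at all points of an open of a connected base
over which it is flat. -/
theorem euler_twist_eq_on_flat {Y T : Scheme.{u}} (f : Y ⟶ T) [IsProper f] [LocallyOfFinitePresentation f]
    [IsLocallyNoetherian Y] {L G : Y.Modules} (hL : PicF.IsInvertible L) (hG : Coh.IsQCoh G) (hGfp : CohB1.IsFP G) {U : T.Opens}
    [IrreducibleSpace T] (hU : ∀ y : Y, f y ∈ U → FlatMod.IsFlatOverAt f G y) (a b : T) (ha : a ∈ U) (hb : b ∈ U)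
    (n : ℕ) : FlatG.chiFib f L G a n = FlatG.chiFib f L G b n := by
  let W : Y.Opens := f ⁻¹ᵁ U
  let g : W.toScheme ⟶ U.toScheme := f ∣_ U
  haveI : IsProper g := inferInstance
  haveI : LocallyOfFinitePresentation g := IsZariskiLocalAtTarget.restrict ‹_› U
  have hc : IsPullback W.ι g f U.ι := (isPullback_morphismRestrict f U).flip
  let G' := (Scheme.Modules.pullback W.ι).obj G
  let L' := (Scheme.Modules.pullback W.ι).obj L
  have hG' : Coh.IsQCoh G' := QCoh.isQCoh_pullback _ hG
  have hG'fp : CohB1.IsFP G' := LimModLib.isFP_pullback _ hG hGfp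
  have hL' : PicF.IsInvertible L' := PicClLib.isInvertible_pullback _ hL
  have hflat : FlatMod.IsFlatOver g G' := fun y => by
    refine KFlatLib.RelTor.flatOverAt_of_iso ((Scheme.Modules.restrictFunctorIsoPullback W.ι).app G) ?_
    refine (KFlatLib.RelTor.flatOverAt_comp_iff g U.ι _ y).2 ?_
    rw [show g ≫ U.ι = W.ι ≫ f from morphismRestrict_ι f U]
    exact (KFlatLib.RelTor.flatOverAt_restrict_iff W.ι f G y).1 (hU _ y.2)
  have hq : Coh.IsQCoh (CohB1.tensorMod G' (CohB1.tensorPow L' n)) := H9Misc.FlatTwistGlobal.isQCoh_twist hG' hL' n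
  have hfl : FlatMod.IsFlatOver g (CohB1.tensorMod G' (CohB1.tensorPow L' n)) :=
    H9Misc.FlatTwistGlobal.isFlatOver_tensor g hG' (InvX.isInvertible_tensorPow hL' n) hq hflat
  haveI : IsLocallyNoetherian W.toScheme := isLocallyNoetherian_of_isOpenImmersion W.ι
  have hfp : CohB1.IsFP (CohB1.tensorMod G' (CohB1.tensorPow L' n)) :=
    QCoh.isCoh_iff_isFP.1 (AmpleVan.isCoh_tensor (QCoh.isCoh_iff_isFP.2 hG'fp)
      (AmpleVan.isCoh_invertible (InvX.isInvertible_tensorPow hL' n)))
  have hlc := S1026.result g (CohB1.tensorMod G' (CohB1.tensorPow L' n)) hfp hfl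
  haveI : Nonempty ↥U := ⟨⟨a, ha⟩⟩
  haveI : PreirreducibleSpace ↥U := Subtype.preirreducibleSpace
    (PreirreducibleSpace.isPreirreducible_univ.open_subset U.2 (Set.subset_univ _))
  haveI : PreconnectedSpace ↥U.toScheme := inferInstanceAs (PreconnectedSpace ↥U)
  have h := hlc.apply_eq_of_preconnectedSpace (⟨a, ha⟩ : ↥U.toScheme) ⟨b, hb⟩
  exact (FlatG.chiFib_bc f L G hc (Iso.refl L') (Iso.refl G') hL hGfp ⟨a, ha⟩ n).symm.trans
    (h.trans (FlatG.chiFib_bc f L G hc (Iso.refl L') (Iso.refl G') hL hGfp ⟨b, hb⟩ n))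

variable {k : Type u} [Field k] {X : Scheme.{u}} [X.Over (Spec (CommRingCat.of k))]
  [IsProper (X ↘ Spec (CommRingCat.of k))] {L : X.Modules}

/-- A coherent quotient of a base change spreads to a quotient over a finite extension with the same Hilbert
polynomials. -/
theorem exists_quot_finite (hL : PicF.IsInvertible L) {E : X.Modules} (hE : Coh.IsCoh E)
    (K : Type u) [Field K] [Algebra k K] {G : (Curv2.bc k X K).Modules} (hG : Coh.IsCoh G)
    (p : (Scheme.Modules.pullback (Curv2.bcFst k X K)).obj E ⟶ G) [Epi p] :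
    ∃ (L' : Type u) (_ : Field L') (_ : Algebra k L') (_ : Module.Finite k L') (G' : (Curv2.bc k X L').Modules)
      (p' : (Scheme.Modules.pullback (Curv2.bcFst k X L')).obj E ⟶ G'),
      Coh.IsCoh G' ∧ Epi p' ∧ ∀ P : ℚ[X],
        ShStab.IsHilbPoly K (Curv2.bc k X K) ((Scheme.Modules.pullback (Curv2.bcFst k X K)).obj L) G P →
        ShStab.IsHilbPoly L' (Curv2.bc k X L') ((Scheme.Modules.pullback (Curv2.bcFst k X L')).obj L) G' P := by
  classical
  haveI : IsNoetherian X := CurveCohLib.isNoetherian_of_proper (k := k)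
  haveI := CurveCohLib.isNoetherian_of_proper (k := K) (X := Curv2.bc k X K)
  let f : X ⟶ Spec (CommRingCat.of k) := X ↘ _
  let D := AlgClosedSpread.diagram k K
  let c := AlgClosedSpread.cone k K
  haveI : ∀ {a b : (Finset K)ᵒᵖ} (φ : a ⟶ b), IsAffineHom (D.map φ) :=
    fun φ => AlgClosedSpread.isAffineHom_map k K φ
  let i : (Finset K)ᵒᵖ := op ∅
  let st := AlgClosedSpread.str k K
  let Xi : Scheme.{u} := pullback f (st i)
  let xi : Xi ⟶ D.obj i := pullback.snd f (st i)
  let qX : Curv2.bc k X K ⟶ Xi := pullback.lift (Curv2.bcFst k X K) (Curv2.bcSnd k X K ≫ c.π.app i)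
    (by rw [Category.assoc, AlgClosedSpread.π_str]; exact pullback.condition)
  have hX : IsPullback qX (Curv2.bcSnd k X K) xi (c.π.app i) := by
    refine IsPullback.of_right ?_ (pullback.lift_snd _ _ _) (IsPullback.of_hasPullback f (st i))
    rw [pullback.lift_fst, AlgClosedSpread.π_str]
    exact IsPullback.of_hasPullback _ _
  let DX := MorLib.BC.diag D xi
  let cX := MorLib.BC.cone D xi (c := c) hX
  have hcX : IsLimit cX := MorLib.BC.isLimitCone D xi (c := c) hX (AlgClosedSpread.isLimit k K)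
  haveI : IsProper xi := (inferInstance : IsProper (pullback.snd f (st i)))
  haveI : CompactSpace Xi := by
    haveI : IsAffine (D.obj i) := AlgClosedSpread.isAffine_obj k K i
    exact QuasiCompact.compactSpace_of_compactSpace xi
  haveI : QuasiSeparatedSpace Xi := by
    haveI : IsAffine (D.obj i) := AlgClosedSpread.isAffine_obj k K i
    exact quasiSeparatedSpace_of_quasiSeparated xi
  let T₀ : Over i := Over.mk (𝟙 i)
  haveI : CompactSpace (DX.obj T₀) := MorLib.BC.compactSpace_obj D xi T₀
  haveI : QuasiSeparatedSpace (DX.obj T₀) := MorLib.BC.quasiSeparatedSpace_obj D xi T₀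
  haveI : ∀ {a b : Over i} (φ : a ⟶ b), IsAffineHom (DX.map φ) := fun φ => MorLib.BC.isAffineHom_map D xi φ
  -- the projections to `X`
  let a : ∀ j : Over i, DX.obj j ⟶ X := fun j => pullback.fst xi (D.map j.hom) ≫ pullback.fst f (st i)
  have ha : ∀ j : Over i, cX.π.app j ≫ a j = Curv2.bcFst k X K := fun j => by
    show MorLib.BC.proj D xi (c := c) hX j ≫ pullback.fst xi (D.map j.hom) ≫ pullback.fst f (st i) = _
    rw [MorLib.BC.proj_fst_assoc, pullback.lift_fst]
  have hEfp : CohB1.IsFP E := QCoh.isCoh_iff_isFP.1 hE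
  let F₀ := (Scheme.Modules.pullback (a T₀)).obj E
  let e₀ : (Scheme.Modules.pullback (cX.π.app T₀)).obj F₀ ≅ (Scheme.Modules.pullback (Curv2.bcFst k X K)).obj E :=
    (Scheme.Modules.pullbackComp _ _ ≪≫ Scheme.Modules.pullbackCongr (ha T₀)).app E
  haveI : Epi (e₀.hom ≫ p) := epi_comp _ _
  haveI : IsLocallyNoetherian cX.pt := inferInstanceAs (IsLocallyNoetherian (Curv2.bc k X K))
  obtain ⟨j, φ, Gj, hGjq, pj, eG, hGjfp, hpj, -⟩ := FPEnough.exists_quotient_descend hcX (i := T₀)
    (QCoh.isQCoh_pullback (a T₀) hE.1) (LimModLib.isFP_pullback _ hE.1 hEfp) hG.1 (QCoh.isCoh_iff_isFP.1 hG)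
    (e₀.hom ≫ p)
  haveI := hpj
  have haj : DX.map φ ≫ a T₀ = a j := by
    show DX.map φ ≫ pullback.fst xi (D.map T₀.hom) ≫ pullback.fst f (st i) = _
    rw [← Category.assoc, MorLib.BC.map_fst]
  let qj : (Scheme.Modules.pullback (a j)).obj E ⟶ Gj :=
    ((Scheme.Modules.pullbackComp _ _ ≪≫ Scheme.Modules.pullbackCongr haj).app E).inv ≫ pj
  haveI : Epi qj := epi_comp _ _
  -- the base of the stage
  let A := Algebra.adjoin k ((j.left.unop : Finset K) : Set K)
  haveI : Algebra.FiniteType k A := Algebra.FiniteType.adjoin_of_finite (Finset.finite_toSet _)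
  haveI : IsNoetherianRing A := Algebra.FiniteType.isNoetherianRing k A
  haveI : IsJacobsonRing A := isJacobsonRing_of_finiteType (A := k)
  let T : Scheme.{u} := Spec (CommRingCat.of A)
  haveI : IsIntegral T := inferInstance
  let fj : DX.obj j ⟶ T := pullback.snd xi (D.map j.hom)
  haveI : IsProper fj := (inferInstance : IsProper (pullback.snd xi (D.map j.hom)))
  haveI : IsLocallyNoetherian (DX.obj j) := LocallyOfFiniteType.isLocallyNoetherian fj
  haveI : LocallyOfFinitePresentation fj :=
    AlgStLib.locallyOfFinitePresentation_of_isLocallyNoetherian _ inferInstance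
  have hsq : IsPullback (a j) fj f (Spec.map (CommRingCat.ofHom (algebraMap k A))) := by
    have h := (IsPullback.of_hasPullback xi (D.map j.hom)).paste_horiz (IsPullback.of_hasPullback f (st i))
    rwa [AlgClosedSpread.map_str] at h
  let Lj := (Scheme.Modules.pullback (a j)).obj L
  have hLj : PicF.IsInvertible Lj := PicClLib.isInvertible_pullback _ hL
  haveI : Coh.IsQCoh Gj := hGjq
  obtain ⟨U, hUne, hU⟩ := S4799.result fj Gj hGjfp
  -- the generic and a closed point
  let x : Spec (CommRingCat.of K) ⟶ T := c.π.app j.left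
  have hη : x (IsLocalRing.closedPoint K) ∈ U := by
    obtain ⟨z, hz⟩ := hUne
    refine (show x (IsLocalRing.closedPoint K) ⤳ z from ?_).mem_open U.2 hz
    refine (PrimeSpectrum.le_iff_specializes _ _).1 ?_
    show Ideal.comap A.val.toRingHom (IsLocalRing.maximalIdeal K) ≤ z.asIdeal
    intro y hy
    have : y = 0 := by
      by_contra h
      exact (show (y : K) ∈ IsLocalRing.maximalIdeal K from hy) (Ne.isUnit fun h' => h (Subtype.ext h'))
    rw [this]
    exact Ideal.zero_mem _
  haveI : JacobsonSpace ↥T := PrimeSpectrum.isJacobsonRing_iff_jacobsonSpace.1 inferInstance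
  obtain ⟨t₀, ht₀U, ht₀⟩ := nonempty_inter_closedPoints hUne U.2.isLocallyClosed
  haveI : t₀.asIdeal.IsMaximal := (PrimeSpectrum.isClosed_singleton_iff_isMaximal t₀).1 (mem_closedPoints_iff.1 ht₀)
  let L' := A ⧸ t₀.asIdeal
  letI : Field L' := Ideal.Quotient.field t₀.asIdeal
  haveI : Algebra.FiniteType k L' :=
    Algebra.FiniteType.of_surjective (Ideal.Quotient.mkₐ k t₀.asIdeal) Ideal.Quotient.mk_surjective
  haveI : Module.Finite k L' := finite_of_finite_type_of_isJacobsonRing k L'
  let x' : Spec (CommRingCat.of L') ⟶ T := Spec.map (CommRingCat.ofHom (Ideal.Quotient.mk t₀.asIdeal))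
  have hx'pt : x' (IsLocalRing.closedPoint L') = t₀ := by
    refine PrimeSpectrum.ext ?_
    show Ideal.comap (Ideal.Quotient.mk t₀.asIdeal) (IsLocalRing.maximalIdeal L') = t₀.asIdeal
    rw [IsLocalRing.maximalIdeal_eq_bot, ← RingHom.ker_eq_comap_bot, Ideal.mk_ker]
  have hx'st : x' ≫ Spec.map (CommRingCat.ofHom (algebraMap k A)) = Spec.map (CommRingCat.ofHom (algebraMap k L')) := by
    rw [← Spec.map_comp]; rfl
  let gx' : Curv2.bc k X L' ⟶ DX.obj j := hsq.lift (Curv2.bcFst k X L') (Curv2.bcSnd k X L' ≫ x')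
    (by rw [Category.assoc, hx'st]; exact pullback.condition)
  have hgx'a : gx' ≫ a j = Curv2.bcFst k X L' := hsq.lift_fst _ _ _
  have hc' : IsPullback gx' (Curv2.bc k X L' ↘ Spec (CommRingCat.of L')) fj x' := by
    refine IsPullback.of_right ?_ (hsq.lift_snd _ _ _) hsq
    rw [hgx'a, hx'st]
    exact IsPullback.of_hasPullback _ _
  have hc : IsPullback (cX.π.app j) (Curv2.bc k X K ↘ Spec (CommRingCat.of K)) fj x :=
    MorLib.BC.isPullback_proj D xi (c := c) hX j
  let G' := (Scheme.Modules.pullback gx').obj Gj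
  let p' : (Scheme.Modules.pullback (Curv2.bcFst k X L')).obj E ⟶ G' :=
    ((Scheme.Modules.pullbackComp _ _ ≪≫ Scheme.Modules.pullbackCongr hgx'a).app E).inv ≫
      (Scheme.Modules.pullback gx').map qj
  haveI := CurveCohLib.isNoetherian_of_proper (k := L') (X := Curv2.bc k X L')
  refine ⟨L', inferInstance, inferInstance, inferInstance, G', p',
    ZClosLib.isCoh_pullback gx' (QCoh.isCoh_iff_isFP.2 hGjfp), epi_comp _ _, fun P hP m => ?_⟩
  rw [← hP m, Int.cast_inj]
  have hqm : Coh.IsQCoh (CohB1.tensorMod Gj (CohB1.tensorPow Lj m)) := H9Misc.FlatTwistGlobal.isQCoh_twist hGjq hLj m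
  -- both sides are fibres of the family
  have key : ∀ (F : Type u) [Field F] [Algebra k F] (g : Curv2.bc k X F ⟶ DX.obj j) (_ : g ≫ a j = Curv2.bcFst k X F)
      (y : Spec (CommRingCat.of F) ⟶ T) (_ : IsPullback g (Curv2.bc k X F ↘ Spec (CommRingCat.of F)) fj y)
      (H : (Curv2.bc k X F).Modules) (_ : (Scheme.Modules.pullback g).obj Gj ≅ H),
      Curv2.euler F (Curv2.bc k X F) (ShStab.twist (Curv2.bc k X F) ((Scheme.Modules.pullback (Curv2.bcFst k X F)).obj L) H m)
        = FlatG.chiFib fj Lj Gj (y (IsLocalRing.closedPoint F)) m := by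
    intro F _ _ g hga y hy H eH
    refine Eq.trans ?_ (euler_fieldPoint fj hy _ hqm)
    obtain ⟨e⟩ := AmpleVan.RelVanish.pullback_twist_iso g Lj Gj m
    have hpow : Nonempty (CohB1.tensorPow ((Scheme.Modules.pullback g).obj Lj) m ≅
        CohB1.tensorPow ((Scheme.Modules.pullback (Curv2.bcFst k X F)).obj L) m) :=
      H23.PicMul.cl_eq_iff.1 (by rw [H23.PicMul.cl_tensorPow, H23.PicMul.cl_tensorPow, H23.PicMul.cl_eq_iff.2
        ⟨(show (Scheme.Modules.pullback g).obj Lj ≅ (Scheme.Modules.pullback (Curv2.bcFst k X F)).obj L from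
          (Scheme.Modules.pullbackComp g (a j) ≪≫ Scheme.Modules.pullbackCongr hga).app L)⟩])
    obtain ⟨e'⟩ := AmpleVan.RelVanish.tensor_congr eH hpow.some
    exact CurveCohLib.euler_congr (k := F) (e ≪≫ e').symm
  rw [key L' gx' hgx'a x' hc' G' (Iso.refl _), key K (cX.π.app j) (ha j) x hc G eG, hx'pt]
  exact euler_twist_eq_on_flat fj hLj hGjq hGjfp hU t₀ _ ht₀U hη m

end Groth.Agent.ShStabBC
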